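import Groth.Agent.ResProp.EF.K412.Defs
import Mathlib.RingTheory.Flat.Basic
import Mathlib.RingTheory.TensorProduct.Basic

/-!
# Nodes N4 and N4' of G1 (helper786)

`theta` is a monomorphism modulo the groupoid, in points.
-/

set_option autoImplicit false
set_option linter.style.haveILetI false
universe u

open Groth.Agent.Grpsch.AffGrpd
open scoped BigOperators TensorProduct

namespace Groth.Agent.ResProp.EF.K786

open Groth.Agent.ResProp.EF.K412

variable {A B : Type u} [CommRing A] [CommRing B]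

section Grpd

variable (G : RGrpd A B)

theorem comp_congr {T : Type u} [CommRing T] {α α' β β' : B →+* T} (h : α.comp G.s = β.comp G.t) (hα : α = α')
    (hβ : β = β') : G.comp α β h = G.comp α' β' (by rw [← hα, ← hβ, h]) := by
  subst hα hβ
  rfl

theorem e_i : G.e.comp G.i = G.e := by
  have h1 := G.comp_i G.e
  have h2 := G.e_comp (G.e.comp G.i)
  rw [G.e_t, RingHom.id_comp] at h1
  have h3 : ((G.e.comp G.i).comp G.t).comp G.e = G.e := by
    rw [RingHom.comp_assoc G.t G.i G.e, G.i_t, G.e_s, RingHom.id_comp]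
  rw [comp_congr G _ h3 rfl] at h2
  exact h2.symm.trans h1

end Grpd

theorem sum_prod {R : Type u} [CommRing R] {m n : ℕ} (f : Fin m → Fin n → R) :
    ∑ J : Fin m → Fin n, ∏ k, f k (J k) = ∏ k, ∑ j, f k j := by
  rw [Finset.prod_univ_sum, Fintype.piFinset_univ]

/-- relations over `B` of elements `c l ⊗ 1` come from relations over `A` (flatness) -/
theorem flat_rel (s : A →+* B) (hs : s.Flat) {n : ℕ} (c u : Fin n → B)
    (h : letI := s.toAlgebra; ∑ l, (c l ⊗ₜ[A] u l : B ⊗[A] B) = 0)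
    {K : Type u} [CommRing K] (γ : B →+* K) (M : Fin n → K)
    (hM : ∀ w : Fin n → A, ∑ l, s (w l) * c l = 0 → ∑ l, M l * γ (s (w l)) = 0) :
    ∑ l, M l * γ (u l) = 0 := by
  letI := s.toAlgebra
  letI := (γ.comp s).toAlgebra
  haveI : Module.Flat A B := hs
  let f : (Fin n → A) →ₗ[A] B := Fintype.linearCombination A c
  have hf : ∀ w, f w = ∑ l, s (w l) * c l := fun w => by
    simp only [f, Fintype.linearCombination_apply, Algebra.smul_def]
    rfl
  let g : (Fin n → A) →ₗ[A] K := Fintype.linearCombination A M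
  have hg : ∀ w, g w = ∑ l, M l * γ (s (w l)) := fun w => by
    simp only [g, Fintype.linearCombination_apply, Algebra.smul_def]
    exact Finset.sum_congr rfl fun l _ => mul_comm _ _
  have hker : LinearMap.ker f.rangeRestrict ≤ LinearMap.ker g := by
    intro w hw
    rw [LinearMap.mem_ker] at hw ⊢
    have hw' : f w = 0 := congrArg Subtype.val hw
    rw [hg]
    exact hM w (by rw [← hf, hw'])
  have hsurj : Function.Surjective f.rangeRestrict := LinearMap.surjective_rangeRestrict f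
  let gb : LinearMap.range f →ₗ[A] K :=
    (Submodule.liftQ _ g hker).comp
      ((f.rangeRestrict.quotKerEquivOfSurjective hsurj).symm : LinearMap.range f →ₗ[A] _)
  have hgb : ∀ w, gb (f.rangeRestrict w) = g w := by
    intro w
    simp only [gb, LinearMap.comp_apply, LinearEquiv.coe_coe]
    have : (f.rangeRestrict.quotKerEquivOfSurjective hsurj).symm (f.rangeRestrict w) =
        Submodule.Quotient.mk w := by
      rw [LinearEquiv.symm_apply_eq]
      rfl
    rw [this]
    exact Submodule.liftQ_apply _ _ _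
  let ι : LinearMap.range f →ₗ[A] B := (LinearMap.range f).subtype
  have hinj : Function.Injective (ι.rTensor B) :=
    Module.Flat.rTensor_preserves_injective_linearMap ι (Submodule.injective_subtype _)
  let z : LinearMap.range f ⊗[A] B := ∑ l, f.rangeRestrict (Pi.single l 1) ⊗ₜ u l
  have hz : z = 0 := by
    apply hinj
    rw [map_zero, map_sum, ← h]
    refine Finset.sum_congr rfl fun l _ => ?_
    rw [LinearMap.rTensor_tmul]
    congr 1
    show f (Pi.single l 1) = c l
    simp [f]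
  let γl : B →ₗ[A] K :=
    { toFun := γ
      map_add' := map_add γ
      map_smul' := by
        intro a b
        simp only [RingHom.id_apply]
        rw [Algebra.smul_def, Algebra.smul_def, map_mul]
        rfl }
  have h2 := congrArg (TensorProduct.lift ((LinearMap.mul A K).compl₁₂ gb γl)) hz
  rw [map_zero, map_sum] at h2
  rw [← h2]
  refine Finset.sum_congr rfl fun l _ => ?_
  rw [TensorProduct.lift.tmul, LinearMap.compl₁₂_apply, hgb]
  show M l * γ (u l) = g (Pi.single l 1) * γ (u l)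
  congr 1
  simp [g]

section Points

variable {Lb : Type u} [CommRing Lb] [Algebra Lb A] {G : RGrpd A B} (D : Gen Lb G)

theorem univ_rel (j : Fin D.n) : letI := G.s.toAlgebra;
    ∑ l, (D.c l ⊗ₜ[A] (∑ i, G.i (D.g l i) * D.g i j - if l = j then 1 else 0) : B ⊗[A] B) = 0 := by
  letI := G.s.toAlgebra
  let α : B →+* B ⊗[A] B := Algebra.TensorProduct.includeLeftRingHom
  let β : B →+* B ⊗[A] B := (Algebra.TensorProduct.includeRight : B →ₐ[A] B ⊗[A] B).toRingHom
  have hαβ : α.comp G.s = β.comp G.s := by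
    ext a
    show (algebraMap A B a) ⊗ₜ[A] (1 : B) = (1 : B) ⊗ₜ[A] (algebraMap A B a)
    rw [Algebra.algebraMap_eq_smul_one, TensorProduct.smul_tmul]
  have h1 : α.comp G.s = (β.comp G.i).comp G.t := by rw [RingHom.comp_assoc, G.i_t, hαβ]
  have h2 : (G.comp α (β.comp G.i) h1).comp G.s = β.comp G.t := by
    rw [G.comp_s, RingHom.comp_assoc, G.i_s]
  have h3 : G.comp (G.comp α (β.comp G.i) h1) β h2 = α := by
    rw [G.assoc α (β.comp G.i) β h1 (by rw [RingHom.comp_assoc, G.i_s])]
    have := G.i_comp β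
    rw [comp_congr G _ rfl this]
    have h4 : (β.comp G.s).comp G.e = (α.comp G.s).comp G.e := by rw [hαβ]
    rw [comp_congr G _ rfl h4]
    exact G.comp_e α
  have h5 := D.comp_c (G.comp α (β.comp G.i) h1) β h2 j
  rw [h3] at h5
  have h6 : ∀ i, G.comp α (β.comp G.i) h1 (D.c i) = ∑ l, α (D.c l) * β (G.i (D.g l i)) := fun i =>
    D.comp_c α (β.comp G.i) h1 i
  simp only [h6] at h5
  have h7 : α (D.c j) = D.c j ⊗ₜ[A] (1 : B) := rfl
  have h8 : ∀ l i, α (D.c l) * β (G.i (D.g l i)) * β (D.g i j) = D.c l ⊗ₜ[A] (G.i (D.g l i) * D.g i j) := by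
    intro l i
    show (D.c l ⊗ₜ[A] (1 : B)) * ((1 : B) ⊗ₜ[A] (G.i (D.g l i))) * ((1 : B) ⊗ₜ[A] (D.g i j)) = _
    rw [Algebra.TensorProduct.tmul_mul_tmul, Algebra.TensorProduct.tmul_mul_tmul, mul_one, mul_one, one_mul]
  simp only [TensorProduct.tmul_sub, Finset.sum_sub_distrib, TensorProduct.tmul_sum]
  rw [sub_eq_zero]
  have h9 : ∑ l, (D.c l ⊗ₜ[A] (if l = j then (1 : B) else 0) : B ⊗[A] B) = D.c j ⊗ₜ[A] 1 := by
    rw [Finset.sum_eq_single j]
    · rw [if_pos rfl]
    · intro l _ hl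
      rw [if_neg hl, TensorProduct.tmul_zero]
    · intro h
      exact absurd (Finset.mem_univ j) h
  rw [h9, ← h7, h5]
  rw [Finset.sum_comm]
  refine Finset.sum_congr rfl fun i _ => ?_
  rw [Finset.sum_mul]
  exact Finset.sum_congr rfl fun l _ => (h8 l i).symm

variable {D} {r1 rm : ℕ} {K : Type u} [CommRing K]

/-- the inverse relation for `M` -/
theorem inv_M (hs : G.s.Flat) {P P' : FrPt D r1 rm K} {γ : B →+* K} (hP : IsFrC P) (h : IsTrans γ P P')
    (b : Fin r1) (j : Fin D.n) : P.M b j = ∑ i, P'.M b i * γ (D.g i j) := by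
  have h1 := flat_rel G.s hs D.c _ (univ_rel D j) γ (fun l => P.M b l) (fun w hw => by
    have := hP.rel1 w hw b
    rw [← this]
    refine Finset.sum_congr rfl fun l _ => ?_
    rw [← h.src]
    rfl)
  simp only [map_sub, mul_sub, Finset.sum_sub_distrib] at h1
  rw [sub_eq_zero] at h1
  have h2 : ∑ l, P.M b l * γ (if l = j then (1 : B) else 0) = P.M b j := by
    rw [Finset.sum_eq_single j]
    · rw [if_pos rfl, map_one, mul_one]
    · intro l _ hl
      rw [if_neg hl, map_zero, mul_zero]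
    · intro h
      exact absurd (Finset.mem_univ j) h
  rw [h2] at h1
  rw [← h1]
  simp only [h.hM, map_sum, map_mul, Finset.mul_sum, Finset.sum_mul]
  rw [Finset.sum_comm]
  exact Finset.sum_congr rfl fun i _ => Finset.sum_congr rfl fun l _ => by ring

/-- the closed condition `hmu` is transported -/
theorem trans_hmu {P P' : FrPt D r1 rm K} {γ : B →+* K} (hP : IsFrC P) (h : IsTrans γ P P')
    (b : Fin rm) (J : Fin D.m → Fin D.n) :
    P'.Mm b J = ∑ Q : Fin D.m → Fin r1, P'.mu b Q * ∏ k, P'.M (Q k) (J k) := by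
  rw [h.hMm]
  simp only [hP.hmu, h.hmu, h.hM]
  simp only [Finset.prod_univ_sum, Fintype.piFinset_univ, Finset.sum_mul, Finset.mul_sum]
  rw [Finset.sum_comm]
  refine Finset.sum_congr rfl fun Q _ => Finset.sum_congr rfl fun I _ => ?_
  rw [Finset.prod_mul_distrib]
  ring

theorem inv_Mm (hs : G.s.Flat) {P P' : FrPt D r1 rm K} {γ : B →+* K} (hP : IsFrC P) (h : IsTrans γ P P')
    (b : Fin rm) (J : Fin D.m → Fin D.n) :
    P.Mm b J = ∑ I : Fin D.m → Fin D.n, P'.Mm b I * ∏ k, γ (D.g (I k) (J k)) := by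
  have h1 : ∀ I, P'.Mm b I = ∑ Q : Fin D.m → Fin r1, P.mu b Q * ∏ k, P'.M (Q k) (I k) := fun I => by
    rw [trans_hmu hP h, h.hmu]
  rw [hP.hmu]
  simp only [h1, fun (q : Fin r1) (i : Fin D.n) => inv_M hs hP h q i]
  simp only [Finset.prod_univ_sum, Fintype.piFinset_univ, Finset.sum_mul, Finset.mul_sum]
  rw [Finset.sum_comm]
  refine Finset.sum_congr rfl fun Q _ => Finset.sum_congr rfl fun I _ => ?_
  rw [Finset.prod_mul_distrib]
  ring

theorem n4' (D : Gen Lb G) (r1 rm : ℕ) : N4' D r1 rm := by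
  intro hs K _ P P' γ hP h
  obtain ⟨S, hS⟩ := hP.sur1
  obtain ⟨Sm, hSm⟩ := hP.surm
  refine ⟨⟨(D.g.map γ) * S, ?_⟩, ⟨(Matrix.of fun I J : Fin D.m → Fin D.n => ∏ k, γ (D.g (I k) (J k))) * Sm, ?_⟩⟩
  · rw [← hS, ← Matrix.mul_assoc]
    congr 1
    ext b j
    rw [Matrix.mul_apply, inv_M hs hP.toIsFrC h]
    rfl
  · rw [← hSm, ← Matrix.mul_assoc]
    congr 1
    ext b J
    rw [Matrix.mul_apply, inv_Mm hs hP.toIsFrC h]
    rfl

/-- the value at the identity is multiplicative -/
theorem ep_mul {P : FrPt D r1 rm K} (hP : IsFr P) {w : Fin r1 → K} {wm : Fin rm → K}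
    (hw : ∀ j, ∑ b, w b * P.M b j = P.a (G.e (D.c j)))
    (hwm : ∀ J, ∑ b, wm b * P.Mm b J = P.a (G.e (mon D.c J))) (Q : Fin D.m → Fin r1) :
    ∑ b, wm b * P.mu b Q = ∏ k, w (Q k) := by
  obtain ⟨S, hS⟩ := hP.sur1
  have hdelta : ∀ Q' : Fin D.m → Fin r1, ∑ J : Fin D.m → Fin D.n, (∏ k, P.M (Q' k) (J k)) * ∏ k, S (J k) (Q k) =
      if Q' = Q then 1 else 0 := by
    intro Q'
    simp only [← Finset.prod_mul_distrib]
    rw [sum_prod (fun k j => P.M (Q' k) j * S j (Q k))]
    have : ∀ k, ∑ j, P.M (Q' k) j * S j (Q k) = if Q' k = Q k then 1 else 0 := fun k => by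
      rw [← Matrix.mul_apply, hS, Matrix.one_apply]
    simp only [this]
    by_cases h : Q' = Q
    · subst h
      simp
    · rw [if_neg h]
      obtain ⟨k, hk⟩ := Function.ne_iff.mp h
      exact Finset.prod_eq_zero (Finset.mem_univ k) (if_neg hk)
  have h1 : ∀ J : Fin D.m → Fin D.n, ∑ Q' : Fin D.m → Fin r1, (∑ b, wm b * P.mu b Q') * ∏ k, P.M (Q' k) (J k) =
      ∑ Q' : Fin D.m → Fin r1, (∏ k, w (Q' k)) * ∏ k, P.M (Q' k) (J k) := by
    intro J
    have e1 : ∑ Q' : Fin D.m → Fin r1, (∑ b, wm b * P.mu b Q') * ∏ k, P.M (Q' k) (J k) =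
        P.a (G.e (mon D.c J)) := by
      rw [← hwm]
      simp only [hP.hmu, Finset.sum_mul, Finset.mul_sum]
      rw [Finset.sum_comm]
      exact Finset.sum_congr rfl fun b _ => Finset.sum_congr rfl fun Q' _ => by ring
    have e2 : ∑ Q' : Fin D.m → Fin r1, (∏ k, w (Q' k)) * ∏ k, P.M (Q' k) (J k) = P.a (G.e (mon D.c J)) := by
      simp only [← Finset.prod_mul_distrib]
      rw [sum_prod (fun k b => w b * P.M b (J k))]
      simp only [hw, mon, map_prod]
    rw [e1, e2]
  have h2 : ∀ f : (Fin D.m → Fin r1) → K, ∑ J : Fin D.m → Fin D.n,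
      (∑ Q' : Fin D.m → Fin r1, f Q' * ∏ k, P.M (Q' k) (J k)) * ∏ k, S (J k) (Q k) = f Q := by
    intro f
    simp only [Finset.sum_mul]
    rw [Finset.sum_comm]
    have : ∀ Q' : Fin D.m → Fin r1, ∑ J : Fin D.m → Fin D.n,
        f Q' * (∏ k, P.M (Q' k) (J k)) * ∏ k, S (J k) (Q k) = f Q' * if Q' = Q then 1 else 0 := by
      intro Q'
      rw [← hdelta, Finset.mul_sum]
      exact Finset.sum_congr rfl fun J _ => by ring
    simp only [this]
    simp
  have h3 := h2 (fun Q' => ∑ b, wm b * P.mu b Q')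
  have h4 := h2 (fun Q' => ∏ k, w (Q' k))
  rw [← h3, ← h4]
  exact Finset.sum_congr rfl fun J _ => by rw [h1]

theorem n4 (D : Gen Lb G) (r1 rm : ℕ) : N4 D r1 rm := by
  intro hs K _ P P' hP hP' hθ
  obtain ⟨w, hw⟩ := hP'.ep1
  obtain ⟨wm, hwm⟩ := hP'.epm
  have hmul := ep_mul hP' hw hwm
  let v : Fin D.n → K := fun j => ∑ b, w b * P.M b j
  have hv0 : v D.i0 = 1 := by
    simp only [v, hθ.th0, hw, D.c_i0, map_one]
  have hmon : ∀ J : Fin D.m → Fin D.n, mon v J = ∑ b, wm b * P.Mm b J := by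
    intro J
    simp only [mon, v, hP.hmu, Finset.prod_univ_sum, Fintype.piFinset_univ, Finset.mul_sum]
    rw [Finset.sum_comm]
    refine Finset.sum_congr rfl fun Q _ => ?_
    rw [Finset.prod_mul_distrib, ← hmul, ← hθ.th1, Finset.sum_mul]
    exact Finset.sum_congr rfl fun b _ => by ring
  have hsum : ∀ p : (Fin D.m → Fin D.n) → A,
      ∑ J, P.a (p J) * mon v J = ∑ b, wm b * ∑ J, P.Mm b J * P.a (p J) := by
    intro p
    simp only [hmon, Finset.mul_sum]
    rw [Finset.sum_comm]
    exact Finset.sum_congr rfl fun b _ => Finset.sum_congr rfl fun J _ => by ring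
  have hsum' : ∀ p : (Fin D.m → Fin D.n) → A,
      ∑ b, wm b * ∑ J, P'.Mm b J * P'.a (p J) = P'.a (G.e (∑ J, G.s (p J) * mon D.c J)) := by
    intro p
    simp only [map_sum, map_mul, Finset.mul_sum]
    rw [Finset.sum_comm]
    refine Finset.sum_congr rfl fun J _ => ?_
    have : G.e (G.s (p J)) = p J := RingHom.congr_fun G.e_s (p J)
    rw [this, ← hwm, Finset.mul_sum]
    exact Finset.sum_congr rfl fun b _ => by ring
  obtain ⟨γ, hγs, hγc⟩ := D.pres P.a v hv0 (fun p hp => by
    rw [hsum]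
    refine Finset.sum_eq_zero fun b _ => ?_
    rw [hP.relm p hp b, mul_zero])
  have hγmon : ∀ J : Fin D.m → Fin D.n, γ (mon D.c J) = mon v J := by
    intro J
    simp only [mon, map_prod, hγc]
  have hγsum : ∀ p : (Fin D.m → Fin D.n) → A,
      γ (∑ J, G.s (p J) * mon D.c J) = ∑ J, P.a (p J) * mon v J := by
    intro p
    rw [map_sum]
    refine Finset.sum_congr rfl fun J _ => ?_
    rw [map_mul, hγmon, ← hγs]
    rfl
  have htgt : γ.comp G.t = P'.a := by
    letI : Algebra Lb K := (P'.a.comp (algebraMap Lb A)).toAlgebra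
    let f : A →ₐ[Lb] K := { γ.comp G.t with
      commutes' := fun l => by
        show γ (G.t (algebraMap Lb A l)) = P'.a (algebraMap Lb A l)
        rw [← D.st, ← hθ.thL, ← hγs]
        rfl }
    let f' : A →ₐ[Lb] K := { P'.a with commutes' := fun l => rfl }
    have : f = f' := by
      refine AlgHom.ext_of_adjoin_eq_top D.x_gen ?_
      rintro _ ⟨l, rfl⟩
      show γ (G.t (D.x l)) = P'.a (D.x l)
      have h1 : γ (G.t (D.x l)) = ∑ b, wm b * ∑ J, P'.Mm b J * P'.a (D.tx l J) := by
        rw [D.t_x, hγsum, hsum]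
        exact Finset.sum_congr rfl fun b _ => by rw [hθ.th2]
      rw [h1, hsum', ← D.t_x]
      have : G.e (G.t (D.x l)) = D.x l := RingHom.congr_fun G.e_t (D.x l)
      rw [this]
    exact RingHom.ext fun x => AlgHom.congr_fun this x
  have hcounit : ∀ b j, ∑ i, P'.M b i * P'.a (G.e (D.g i j)) = P'.M b j := by
    intro b j
    have h1 := D.comp_c (RingHom.id B) (((RingHom.id B).comp G.s).comp G.e)
      (by rw [RingHom.comp_assoc, G.e_t, RingHom.comp_id]) j
    rw [G.comp_e] at h1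
    have h2 := hP'.rel1 (fun i => G.e (D.g i j) - if i = j then 1 else 0) (by
      simp only [map_sub, sub_mul, Finset.sum_sub_distrib]
      rw [sub_eq_zero]
      have h3 : ∑ i, G.s (if i = j then (1 : A) else 0) * D.c i = D.c j := by
        rw [Finset.sum_eq_single j]
        · rw [if_pos rfl, map_one, one_mul]
        · intro l _ hl
          rw [if_neg hl, map_zero, zero_mul]
        · intro h
          exact absurd (Finset.mem_univ j) h
      rw [h3]
      refine Eq.trans ?_ h1.symm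
      exact Finset.sum_congr rfl fun i _ => mul_comm _ _) b
    simp only [map_sub, mul_sub, Finset.sum_sub_distrib] at h2
    rw [sub_eq_zero] at h2
    rw [h2, Finset.sum_eq_single j]
    · rw [if_pos rfl, map_one, mul_one]
    · intro l _ hl
      rw [if_neg hl, map_zero, mul_zero]
    · intro h
      exact absurd (Finset.mem_univ j) h
  have hM : ∀ b j, P'.M b j = ∑ i, P.M b i * γ (G.i (D.g i j)) := by
    intro b j
    have h1 : ∀ i, γ (G.i (D.g i j)) = ∑ b', wm b' * ∑ J, P.Mm b' J * P.a (D.ig i j J) := by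
      intro i
      rw [D.i_g, hγsum, hsum]
    have h2 : ∀ i, P'.a (G.e (D.g i j)) = ∑ b', wm b' * ∑ J, P'.Mm b' J * P'.a (D.ig i j J) := by
      intro i
      rw [hsum', ← D.i_g]
      have : G.e (G.i (D.g i j)) = G.e (D.g i j) := RingHom.congr_fun (e_i G) _
      rw [this]
    rw [← hcounit b j]
    simp only [h1, h2]
    have h3 : ∀ (N : Matrix (Fin r1) (Fin D.n) K) (q : Fin D.n → Fin rm → K),
        ∑ i, N b i * ∑ b', wm b' * q i b' = ∑ b', wm b' * ∑ i, N b i * q i b' := by
      intro N q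
      simp only [Finset.mul_sum]
      rw [Finset.sum_comm]
      exact Finset.sum_congr rfl fun _ _ => Finset.sum_congr rfl fun _ _ => by ring
    rw [h3 P'.M (fun i b' => ∑ J, P'.Mm b' J * P'.a (D.ig i j J)), h3 P.M (fun i b' => ∑ J, P.Mm b' J * P.a (D.ig i j J))]
    exact Finset.sum_congr rfl fun b' _ => by rw [hθ.th3]
  have htr : IsTrans γ P P' := by
    refine ⟨hγs, htgt, hM, ?_, hθ.th1.symm⟩
    intro b J
    rw [hP'.hmu, ← hθ.th1]
    simp only [hM, hP.hmu]
    simp only [Finset.prod_univ_sum, Fintype.piFinset_univ, Finset.sum_mul, Finset.mul_sum]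
    rw [Finset.sum_comm]
    refine Finset.sum_congr rfl fun I _ => Finset.sum_congr rfl fun Q _ => ?_
    rw [Finset.prod_mul_distrib]
    ring
  refine ⟨γ, htr, ?_⟩
  intro γ' hγ'
  refine D.gen γ' γ (hγ'.src.trans htr.src.symm) ?_
  have key : ∀ δ : B →+* K, IsTrans δ P P' → ∀ j, δ (D.c j) = v j := by
    intro δ hδ j
    have h1 := D.comp_c ((δ.comp G.t).comp G.e) δ (by rw [RingHom.comp_assoc, G.e_s, RingHom.comp_id]) j
    rw [G.e_comp] at h1
    rw [h1]
    simp only [v, inv_M hs hP.toIsFrC hδ]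
    have h2 : ∀ i, ((δ.comp G.t).comp G.e) (D.c i) = ∑ b, w b * P'.M b i := by
      intro i
      rw [hw, hδ.tgt]
      rfl
    simp only [h2, Finset.mul_sum, Finset.sum_mul]
    rw [Finset.sum_comm]
    exact Finset.sum_congr rfl fun _ _ => Finset.sum_congr rfl fun _ _ => by ring
  intro j
  rw [key γ' hγ', key γ htr]

end Points

end Groth.Agent.ResProp.EF.K786
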