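import Groth.Agent.ResProp.EF.K786.Pres
import Mathlib.LinearAlgebra.Matrix.NonsingularInverse
import Mathlib.LinearAlgebra.Matrix.Adjugate
import Mathlib.LinearAlgebra.TensorProduct.Basic
import Mathlib.RingTheory.Ideal.Span

/-!
# N4 in points form: the coordinate map of the frame space is a monomorphism modulo `Γ` (helper786)

Everything over a fixed test ring `T`.
-/

set_option autoImplicit false
universe u v

open scoped BigOperators TensorProduct

namespace Groth.Agent.ResProp.EF.K786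

variable {A Γ D : Type u} [CommRing A] [CommRing Γ] [CommRing D] [Algebra A Γ] [Algebra A D]

/-- The data of N4 (no points yet): `E ⊆ Γ` with generators `e k` and coaction matrix `c`, the universal frames
`q₁ : E → D ^ ι`, `qm : E ^ m → D ^ κ`, the multiplication `μ`. -/
structure FrData (A Γ D : Type u) [CommRing A] [CommRing Γ] [CommRing D] [Algebra A Γ] [Algebra A D] where
  /-- target -/
  t : A →+* Γ
  /-- counit -/
  ε : Γ →+* A
  ε_s : ∀ a, ε (algebraMap A Γ a) = a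
  ε_t : ∀ a, ε (t a) = a
  /-- generating sub-comodule -/
  E : Submodule A Γ
  one_mem : (1 : Γ) ∈ E
  gen : Algebra.adjoin A (E : Set Γ) = ⊤
  /-- the exponent -/
  m : ℕ
  pres : PresUP E m
  /-- index set of generators of `E` -/
  K : Type
  [fK : Fintype K]
  /-- generators of `E` -/
  e : K → E
  span_e : Submodule.span A (Set.range e) = ⊤
  /-- matrix of the coaction: `e_k (h₂ h₁⁻¹) = ∑ l, c_{kl}(h₁) e_l(h₂)` -/
  c : K → K → ↥(E ^ m)
  counit : ∀ k, ∑ l, ε (c k l : Γ) • e l = e k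
  /-- the matrix of the inverse arrow -/
  c' : K → K → Γ
  hc₁ : ∀ k, (e k : Γ) = ∑ l, c' k l * t (ε (e l))
  hc₂ : ∀ k, ∑ l, ∑ n, ((c' k l * (c l n : Γ)) ⊗ₜ[A] e n : Γ ⊗[A] E) = 1 ⊗ₜ[A] e k
  hc₃ : ∀ k, ∑ l, ∑ n, (((c k l : Γ) * c' l n) ⊗ₜ[A] e n : Γ ⊗[A] E) = 1 ⊗ₜ[A] e k
  /-- frames -/
  ι : Type
  [fι : Fintype ι]
  [dι : DecidableEq ι]
  κ : Type
  [fκ : Fintype κ]
  [dκ : DecidableEq κ]
  q₁ : E →ₗ[A] (ι → D)
  qm : ↥(E ^ m) →ₗ[A] (κ → D)
  /-- multiplication in coordinates -/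
  μ : (Fin m → ι) → κ → D
  hμ : ∀ (v : Fin m → E) (k : κ), qm ⟨∏ i, (v i : Γ), prod_mem_pow E m v⟩ k =
    ∑ J : Fin m → ι, (∏ i, q₁ (v i) (J i)) * μ J k

attribute [instance] FrData.fK FrData.fι FrData.dι FrData.fκ FrData.dκ

namespace FrData

variable (F : FrData A Γ D) {T : Type u} [CommRing T]

/-- coordinates of the evaluation at the identity, for the point `φ` -/
structure Ev (φ : D →+* T) where
  ev₁ : F.ι → T
  evm : F.κ → T
  h₁ : ∀ e : F.E, ∑ j, ev₁ j * φ (F.q₁ e j) = φ (algebraMap A D (F.ε e))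
  hm : ∀ e : ↥(F.E ^ F.m), ∑ j, evm j * φ (F.qm e j) = φ (algebraMap A D (F.ε e))
  hμ : ∀ J : Fin F.m → F.ι, ∑ k, evm k * φ (F.μ J k) = ∏ i, ev₁ (J i)

/-- **existence of the arrow**. `X` : a set of elements `a` of `A` with `t a ∈ E ^ m`. -/
theorem exists_arrow (φ₁ φ₂ : D →+* T) (v : F.Ev φ₂)
    (hθ1 : ∀ j, φ₁ (F.q₁ ⟨1, F.one_mem⟩ j) = φ₂ (F.q₁ ⟨1, F.one_mem⟩ j))
    (hθ2 : ∀ J k, φ₁ (F.μ J k) = φ₂ (F.μ J k))
    (hθ5 : ∀ k i j, φ₁ (∑ l, F.qm (F.c k l) i * F.q₁ (F.e l) j) = φ₂ (∑ l, F.qm (F.c k l) i * F.q₁ (F.e l) j)) :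
    ∃ γ : Γ →+* T, γ.comp (algebraMap A Γ) = φ₁.comp (algebraMap A D) ∧
      (∀ e : F.E, γ e = ∑ j, v.ev₁ j * φ₁ (F.q₁ e j)) ∧
      (∀ e : ↥(F.E ^ F.m), γ e = ∑ j, v.evm j * φ₁ (F.qm e j)) ∧
      (∀ k j, φ₂ (F.q₁ (F.e k) j) = ∑ l, γ (F.c k l : Γ) * φ₁ (F.q₁ (F.e l) j)) ∧
      (∀ (a : A) (ha : F.t a ∈ F.E ^ F.m), (∀ i, φ₁ (F.qm ⟨F.t a, ha⟩ i) = φ₂ (F.qm ⟨F.t a, ha⟩ i)) →
        γ (F.t a) = φ₂ (algebraMap A D a)) := by
  obtain ⟨γ, h1, h2, h3⟩ := F.pres T (φ₁.comp (algebraMap A D))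
    (AddMonoidHom.mk' (fun e => ∑ j, v.ev₁ j * φ₁ (F.q₁ e j)) (fun x y => by
      simp [mul_add, Finset.sum_add_distrib]))
    (AddMonoidHom.mk' (fun e => ∑ j, v.evm j * φ₁ (F.qm e j)) (fun x y => by
      simp [mul_add, Finset.sum_add_distrib]))
    (fun a e => by
      simp only [AddMonoidHom.mk'_apply, map_smul, Pi.smul_apply, Algebra.smul_def, map_mul, RingHom.comp_apply,
        Finset.mul_sum]
      exact Finset.sum_congr rfl fun j _ => by ring)
    (fun a e => by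
      simp only [AddMonoidHom.mk'_apply, map_smul, Pi.smul_apply, Algebra.smul_def, map_mul, RingHom.comp_apply,
        Finset.mul_sum]
      exact Finset.sum_congr rfl fun j _ => by ring)
    (fun e he => by
      have he' : e = ⟨1, F.one_mem⟩ := Subtype.ext he
      subst he'
      simp only [AddMonoidHom.mk'_apply, hθ1]
      rw [v.h₁]
      simp)
    (fun w => by
      simp only [AddMonoidHom.mk'_apply]
      calc ∑ k, v.evm k * φ₁ (F.qm ⟨∏ i, (w i : Γ), prod_mem_pow F.E F.m w⟩ k)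
          = ∑ k, ∑ J : Fin F.m → F.ι, (∏ i, φ₁ (F.q₁ (w i) (J i))) * (v.evm k * φ₂ (F.μ J k)) := by
            refine Finset.sum_congr rfl fun k _ => ?_
            rw [F.hμ, map_sum, Finset.mul_sum]
            refine Finset.sum_congr rfl fun J _ => ?_
            rw [map_mul, map_prod, hθ2]
            ring
        _ = ∑ J : Fin F.m → F.ι, (∏ i, φ₁ (F.q₁ (w i) (J i))) * ∏ i, v.ev₁ (J i) := by
            rw [Finset.sum_comm]
            refine Finset.sum_congr rfl fun J _ => ?_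
            rw [← Finset.mul_sum, v.hμ]
        _ = ∏ i, ∑ j, v.ev₁ j * φ₁ (F.q₁ (w i) j) := by
            rw [Finset.prod_univ_sum]
            simp only [Fintype.piFinset_univ]
            refine Finset.sum_congr rfl fun J _ => ?_
            rw [← Finset.prod_mul_distrib]
            exact Finset.prod_congr rfl fun i _ => mul_comm _ _)
  have h2' : ∀ e : F.E, γ e = ∑ j, v.ev₁ j * φ₁ (F.q₁ e j) := h2
  have h3' : ∀ e : ↥(F.E ^ F.m), γ e = ∑ j, v.evm j * φ₁ (F.qm e j) := h3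
  refine ⟨γ, h1, h2', h3', ?_, ?_⟩
  · intro k j
    calc φ₂ (F.q₁ (F.e k) j) = φ₂ (F.q₁ (∑ l, F.ε (F.c k l : Γ) • F.e l) j) := by rw [F.counit]
      _ = ∑ l, φ₂ (algebraMap A D (F.ε (F.c k l : Γ))) * φ₂ (F.q₁ (F.e l) j) := by
          rw [map_sum, Finset.sum_apply, map_sum]
          refine Finset.sum_congr rfl fun l _ => ?_
          rw [map_smul, Pi.smul_apply, Algebra.smul_def, map_mul]
      _ = ∑ l, (∑ i, v.evm i * φ₂ (F.qm (F.c k l) i)) * φ₂ (F.q₁ (F.e l) j) := by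
          refine Finset.sum_congr rfl fun l _ => ?_
          rw [v.hm]
      _ = ∑ i, v.evm i * φ₂ (∑ l, F.qm (F.c k l) i * F.q₁ (F.e l) j) := by
          simp only [Finset.sum_mul, map_sum, map_mul, Finset.mul_sum]
          rw [Finset.sum_comm]
          exact Finset.sum_congr rfl fun i _ => Finset.sum_congr rfl fun l _ => by ring
      _ = ∑ i, v.evm i * φ₁ (∑ l, F.qm (F.c k l) i * F.q₁ (F.e l) j) := by
          exact Finset.sum_congr rfl fun i _ => by rw [hθ5]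
      _ = ∑ l, (∑ i, v.evm i * φ₁ (F.qm (F.c k l) i)) * φ₁ (F.q₁ (F.e l) j) := by
          simp only [Finset.sum_mul, map_sum, map_mul, Finset.mul_sum]
          rw [Finset.sum_comm]
          exact Finset.sum_congr rfl fun l _ => Finset.sum_congr rfl fun i _ => by ring
      _ = ∑ l, γ (F.c k l : Γ) * φ₁ (F.q₁ (F.e l) j) := by
          exact Finset.sum_congr rfl fun l _ => by rw [h3']
  · intro a ha hqa
    have := h3' ⟨F.t a, ha⟩
    simp only at this
    rw [this]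
    calc ∑ j, v.evm j * φ₁ (F.qm ⟨F.t a, ha⟩ j) = ∑ j, v.evm j * φ₂ (F.qm ⟨F.t a, ha⟩ j) :=
          Finset.sum_congr rfl fun j _ => by rw [hqa]
      _ = φ₂ (algebraMap A D (F.ε (F.t a))) := v.hm ⟨F.t a, ha⟩
      _ = φ₂ (algebraMap A D a) := by rw [F.ε_t]

/-- a semilinear map on `E` and a ring map on `Γ` give a map on `Γ ⊗ E` -/
noncomputable def tmap (γ : Γ →+* T) (a : A →+* T) (h : γ.comp (algebraMap A Γ) = a) (q : F.E →+ T)
    (hq : ∀ (c : A) (e : F.E), q (c • e) = a c * q e) : Γ ⊗[A] F.E →+ T :=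
  TensorProduct.liftAddHom
    ((AddMonoidHom.mul : T →+ T →+ T).comp γ.toAddMonoidHom |>.compr₂ (AddMonoidHom.id T) |>.compl₂ q)
    (fun r g e => by
      subst h
      show γ (r • g) * q e = γ g * q (r • e)
      rw [hq, Algebra.smul_def, map_mul]
      simp only [RingHom.comp_apply]
      ring)

theorem tmap_tmul (γ : Γ →+* T) (a : A →+* T) (h : γ.comp (algebraMap A Γ) = a) (q : F.E →+ T)
    (hq : ∀ (c : A) (e : F.E), q (c • e) = a c * q e) (g : Γ) (e : F.E) :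
    F.tmap γ a h q hq (g ⊗ₜ e) = γ g * q e := rfl

/-- the coordinate `j` of `q₁`, pushed along `φ` -/
def coord (φ : D →+* T) (j : F.ι) : F.E →+ T :=
  AddMonoidHom.mk' (fun e => φ (F.q₁ e j)) (fun x y => by simp)

theorem coord_smul (φ : D →+* T) (j : F.ι) (c : A) (e : F.E) :
    F.coord φ j (c • e) = (φ.comp (algebraMap A D)) c * F.coord φ j e := by
  simp [coord, Algebra.smul_def]

/-- the inverse relation -/
theorem inv_rel (φ₁ φ₂ : D →+* T) (γ : Γ →+* T) (hs : γ.comp (algebraMap A Γ) = φ₁.comp (algebraMap A D))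
    (hγ : ∀ k j, φ₂ (F.q₁ (F.e k) j) = ∑ l, γ (F.c k l : Γ) * φ₁ (F.q₁ (F.e l) j)) (k : F.K) (j : F.ι) :
    φ₁ (F.q₁ (F.e k) j) = ∑ l, γ (F.c' k l) * φ₂ (F.q₁ (F.e l) j) := by
  have h := congrArg (F.tmap γ _ hs (F.coord φ₁ j) (F.coord_smul φ₁ j)) (F.hc₂ k)
  simp only [map_sum, tmap_tmul, map_mul, map_one, one_mul] at h
  calc φ₁ (F.q₁ (F.e k) j) = F.coord φ₁ j (F.e k) := rfl
    _ = ∑ l, ∑ n, γ (F.c' k l) * γ (F.c l n : Γ) * F.coord φ₁ j (F.e n) := h.symm
    _ = ∑ l, γ (F.c' k l) * φ₂ (F.q₁ (F.e l) j) := by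
        refine Finset.sum_congr rfl fun l _ => ?_
        rw [hγ, Finset.mul_sum]
        exact Finset.sum_congr rfl fun n _ => by rw [mul_assoc]; rfl

theorem hom_ext_E {γ γ' : Γ →+* T} (h : γ.comp (algebraMap A Γ) = γ'.comp (algebraMap A Γ))
    (hE : ∀ k, γ (F.e k) = γ' (F.e k)) : γ = γ' := by
  letI : Algebra A T := (γ.comp (algebraMap A Γ)).toAlgebra
  let g : Γ →ₐ[A] T := { γ with commutes' := fun a => rfl }
  let g' : Γ →ₐ[A] T := { γ' with commutes' := fun a => (RingHom.congr_fun h a).symm }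
  have : g = g' := by
    refine AlgHom.ext_of_adjoin_eq_top F.gen ?_
    intro x hx
    have hx' : (⟨x, hx⟩ : F.E) ∈ Submodule.span A (Set.range F.e) := by rw [F.span_e]; trivial
    have key : ∀ y : F.E, y ∈ Submodule.span A (Set.range F.e) → g y = g' y := by
      intro y hy
      induction hy using Submodule.span_induction with
      | mem z hz => obtain ⟨k, rfl⟩ := hz; exact hE k
      | zero => simp
      | add y z _ _ ihy ihz => simp [ihy, ihz]
      | smul c y _ ih => simp [ih]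
    exact key _ hx'
  exact RingHom.ext fun x => AlgHom.congr_fun this x

/-- **uniqueness of the arrow** -/
theorem arrow_formula (φ₁ φ₂ : D →+* T) (v : F.Ev φ₂) (γ : Γ →+* T)
    (hs : γ.comp (algebraMap A Γ) = φ₁.comp (algebraMap A D)) (ht : γ.comp F.t = φ₂.comp (algebraMap A D))
    (hγ : ∀ k j, φ₂ (F.q₁ (F.e k) j) = ∑ l, γ (F.c k l : Γ) * φ₁ (F.q₁ (F.e l) j)) (k : F.K) :
    γ (F.e k) = ∑ j, v.ev₁ j * φ₁ (F.q₁ (F.e k) j) := by
  calc γ (F.e k) = γ (∑ l, F.c' k l * F.t (F.ε (F.e l))) := by rw [← F.hc₁]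
    _ = ∑ l, γ (F.c' k l) * φ₂ (algebraMap A D (F.ε (F.e l))) := by
        rw [map_sum]
        refine Finset.sum_congr rfl fun l _ => ?_
        rw [map_mul]
        congr 1
        exact RingHom.congr_fun ht _
    _ = ∑ l, γ (F.c' k l) * ∑ j, v.ev₁ j * φ₂ (F.q₁ (F.e l) j) := by
        exact Finset.sum_congr rfl fun l _ => by rw [v.h₁]
    _ = ∑ j, v.ev₁ j * ∑ l, γ (F.c' k l) * φ₂ (F.q₁ (F.e l) j) := by
        simp only [Finset.mul_sum]
        rw [Finset.sum_comm]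
        exact Finset.sum_congr rfl fun j _ => Finset.sum_congr rfl fun l _ => by ring
    _ = ∑ j, v.ev₁ j * φ₁ (F.q₁ (F.e k) j) := by
        exact Finset.sum_congr rfl fun j _ => by rw [F.inv_rel φ₁ φ₂ γ hs hγ]

theorem arrow_unique (φ₁ φ₂ : D →+* T) (v : F.Ev φ₂) (γ γ' : Γ →+* T)
    (hs : γ.comp (algebraMap A Γ) = φ₁.comp (algebraMap A D)) (ht : γ.comp F.t = φ₂.comp (algebraMap A D))
    (hγ : ∀ k j, φ₂ (F.q₁ (F.e k) j) = ∑ l, γ (F.c k l : Γ) * φ₁ (F.q₁ (F.e l) j))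
    (hs' : γ'.comp (algebraMap A Γ) = φ₁.comp (algebraMap A D)) (ht' : γ'.comp F.t = φ₂.comp (algebraMap A D))
    (hγ' : ∀ k j, φ₂ (F.q₁ (F.e k) j) = ∑ l, γ' (F.c k l : Γ) * φ₁ (F.q₁ (F.e l) j)) : γ = γ' :=
  F.hom_ext_E (hs.trans hs'.symm) fun k => by
    rw [F.arrow_formula φ₁ φ₂ v γ hs ht hγ, F.arrow_formula φ₁ φ₂ v γ' hs' ht' hγ']

/-- the frame minors -/
def minor₁ (σ : F.ι → F.E) : D := Matrix.det (Matrix.of fun i j => F.q₁ (σ j) i)

/-- the frame minors, degree `m` -/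
def minorm (τ : F.κ → ↥(F.E ^ F.m)) : D := Matrix.det (Matrix.of fun i j => F.qm (τ j) i)

/-- **evaluations exist on the frame space**: `D ⊆ L`, and the evaluation exists over `L`. -/
theorem exists_ev {L : Type u} [CommRing L] (lam : D →+* L) (hlam : Function.Injective lam) (vL : F.Ev lam)
    (φ : D →+* T) (σ : F.ι → F.E) (τ : F.κ → ↥(F.E ^ F.m)) (hu : IsUnit (φ (F.minor₁ σ)))
    (hum : IsUnit (φ (F.minorm τ))) : Nonempty (F.Ev φ) := by
  let Q : Matrix F.ι F.ι D := Matrix.of fun i j => F.q₁ (σ j) i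
  let Qm : Matrix F.κ F.κ D := Matrix.of fun i j => F.qm (τ j) i
  let b : F.ι → D := fun j => algebraMap A D (F.ε (σ j))
  let bm : F.κ → D := fun j => algebraMap A D (F.ε (τ j))
  let x : F.ι → D := Matrix.vecMul b Q.adjugate
  let y : F.κ → D := Matrix.vecMul bm Qm.adjugate
  have hx : ∀ j, lam (x j) = lam (F.minor₁ σ) * vL.ev₁ j := by
    intro j
    have h1 : Matrix.vecMul vL.ev₁ (Q.map lam) = lam ∘ b := by
      funext j
      exact vL.h₁ (σ j)
    have h2 : lam (x j) = Matrix.vecMul (lam ∘ b) ((Q.map lam).adjugate) j := by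
      simp only [x]
      rw [RingHom.map_vecMul]
      congr 1
      rw [← RingHom.mapMatrix_apply, ← RingHom.mapMatrix_apply, RingHom.map_adjugate]
    rw [h2, ← h1, Matrix.vecMul_vecMul, Matrix.mul_adjugate, Matrix.vecMul_smul, Matrix.vecMul_one]
    simp only [Pi.smul_apply, smul_eq_mul]
    congr 1
    rw [← RingHom.mapMatrix_apply, ← RingHom.map_det]
    rfl
  have hy : ∀ j, lam (y j) = lam (F.minorm τ) * vL.evm j := by
    intro j
    have h1 : Matrix.vecMul vL.evm (Qm.map lam) = lam ∘ bm := by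
      funext j
      exact vL.hm (τ j)
    have h2 : lam (y j) = Matrix.vecMul (lam ∘ bm) ((Qm.map lam).adjugate) j := by
      simp only [y]
      rw [RingHom.map_vecMul]
      congr 1
      rw [← RingHom.mapMatrix_apply, ← RingHom.mapMatrix_apply, RingHom.map_adjugate]
    rw [h2, ← h1, Matrix.vecMul_vecMul, Matrix.mul_adjugate, Matrix.vecMul_smul, Matrix.vecMul_one]
    simp only [Pi.smul_apply, smul_eq_mul]
    congr 1
    rw [← RingHom.mapMatrix_apply, ← RingHom.map_det]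
    rfl
  obtain ⟨u, hu⟩ := hu
  obtain ⟨w, hw⟩ := hum
  have hD₁ : ∀ e : F.E, ∑ j, x j * F.q₁ e j = F.minor₁ σ * algebraMap A D (F.ε e) := by
    intro e
    apply hlam
    rw [map_sum, map_mul, ← vL.h₁, Finset.mul_sum]
    exact Finset.sum_congr rfl fun j _ => by rw [map_mul, hx]; ring
  have hDm : ∀ e : ↥(F.E ^ F.m), ∑ j, y j * F.qm e j = F.minorm τ * algebraMap A D (F.ε e) := by
    intro e
    apply hlam
    rw [map_sum, map_mul, ← vL.hm, Finset.mul_sum]
    exact Finset.sum_congr rfl fun j _ => by rw [map_mul, hy]; ring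
  have hDμ : ∀ J : Fin F.m → F.ι, F.minor₁ σ ^ F.m * ∑ k, y k * F.μ J k = F.minorm τ * ∏ i, x (J i) := by
    intro J
    apply hlam
    rw [map_mul, map_mul, map_sum, map_prod, map_pow]
    have : ∏ i, lam (x (J i)) = lam (F.minor₁ σ) ^ F.m * ∏ i, vL.ev₁ (J i) := by
      rw [Finset.prod_congr rfl fun i _ => hx (J i), Finset.prod_mul_distrib, Finset.prod_const, Finset.card_univ,
        Fintype.card_fin]
    rw [this, ← vL.hμ]
    have : ∑ k, lam (y k * F.μ J k) = lam (F.minorm τ) * ∑ k, vL.evm k * lam (F.μ J k) := by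
      rw [Finset.mul_sum]
      exact Finset.sum_congr rfl fun k _ => by rw [map_mul, hy]; ring
    rw [this]
    ring
  refine ⟨⟨fun j => ↑u⁻¹ * φ (x j), fun j => ↑w⁻¹ * φ (y j), ?_, ?_, ?_⟩⟩
  · intro e
    have := congrArg φ (hD₁ e)
    rw [map_sum, map_mul, ← hu] at this
    calc ∑ j, ↑u⁻¹ * φ (x j) * φ (F.q₁ e j) = ↑u⁻¹ * ∑ j, φ (x j * F.q₁ e j) := by
          rw [Finset.mul_sum]
          exact Finset.sum_congr rfl fun j _ => by rw [map_mul]; ring
      _ = φ (algebraMap A D (F.ε e)) := by rw [this, ← mul_assoc, Units.inv_mul, one_mul]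
  · intro e
    have := congrArg φ (hDm e)
    rw [map_sum, map_mul, ← hw] at this
    calc ∑ j, ↑w⁻¹ * φ (y j) * φ (F.qm e j) = ↑w⁻¹ * ∑ j, φ (y j * F.qm e j) := by
          rw [Finset.mul_sum]
          exact Finset.sum_congr rfl fun j _ => by rw [map_mul]; ring
      _ = φ (algebraMap A D (F.ε e)) := by rw [this, ← mul_assoc, Units.inv_mul, one_mul]
  · intro J
    have h := congrArg φ (hDμ J)
    rw [map_mul, map_mul, map_pow, ← hu, ← hw, map_sum, map_prod] at h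
    calc ∑ k, ↑w⁻¹ * φ (y k) * φ (F.μ J k) = ↑w⁻¹ * ∑ k, φ (y k * F.μ J k) := by
          rw [Finset.mul_sum]
          exact Finset.sum_congr rfl fun j _ => by rw [map_mul]; ring
      _ = ↑w⁻¹ * (((u⁻¹ ^ F.m : Tˣ) : T) * ((u : T) ^ F.m * ∑ k, φ (y k * F.μ J k))) := by
          have : (((u⁻¹ ^ F.m : Tˣ) : T) * (u : T) ^ F.m) = 1 := by
            rw [← Units.val_pow_eq_pow_val, ← Units.val_mul, inv_pow, inv_mul_cancel, Units.val_one]
          rw [← mul_assoc _ ((u : T) ^ F.m), this, one_mul]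
      _ = ((u⁻¹ ^ F.m : Tˣ) : T) * ∏ i, φ (x (J i)) := by
          rw [h]
          have : (↑w⁻¹ : T) * w = 1 := Units.inv_mul w
          calc (↑w⁻¹ : T) * (((u⁻¹ ^ F.m : Tˣ) : T) * (↑w * ∏ i, φ (x (J i))))
              = (↑w⁻¹ * ↑w) * (((u⁻¹ ^ F.m : Tˣ) : T) * ∏ i, φ (x (J i))) := by ring
            _ = _ := by rw [this, one_mul]
      _ = ∏ i, ↑u⁻¹ * φ (x (J i)) := by
          rw [Finset.prod_mul_distrib, Finset.prod_const, Finset.card_univ, Fintype.card_fin,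
            Units.val_pow_eq_pow_val]

end FrData

end Groth.Agent.ResProp.EF.K786
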