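import Mathlib.RingTheory.FinitePresentation
import Mathlib.Algebra.Algebra.Operations
import Mathlib.Algebra.MvPolynomial.Degrees

/-!
# Presentation of an algebra by a generating submodule, as a universal property (G1, N1 (a), helper786)

`PresUP E m` : ring homomorphisms out of `Γ` are built from semilinear maps on `E` and `E ^ m`.
`exists_presUP` : it holds for all large `m` if `Γ` is of finite presentation over `A`, `E` is f.g., `1 ∈ E` and `E` generates.
-/

set_option autoImplicit false
universe u v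

open scoped BigOperators

namespace Groth.Agent.ResProp.EF.K786

section Pres

variable {A : Type v} {Γ : Type u} [CommRing A] [CommRing Γ] [Algebra A Γ]

theorem prod_mem_pow (E : Submodule A Γ) (m : ℕ) (e : Fin m → E) : (∏ i, (e i : Γ)) ∈ E ^ m := by
  induction m with
  | zero =>
    rw [pow_zero, Fin.prod_univ_zero]
    exact Submodule.one_le.mp (le_refl (1 : Submodule A Γ))
  | succ n ih =>
    rw [Fin.prod_univ_succ, pow_succ']
    exact Submodule.mul_mem_mul (e 0).2 (ih _)

theorem pow_eq_span (E : Submodule A Γ) (m : ℕ) :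
    E ^ m = Submodule.span A (Set.range fun e : Fin m → E => ∏ i, (e i : Γ)) := by
  refine le_antisymm ?_ (Submodule.span_le.mpr ?_)
  · rw [Submodule.pow_eq_span_pow_set]
    refine Submodule.span_mono ?_
    intro x hx
    obtain ⟨f, hf⟩ := Set.mem_pow.mp hx
    refine ⟨f, ?_⟩
    rw [← hf, List.prod_ofFn]
  · rintro _ ⟨e, rfl⟩
    exact prod_mem_pow E m e

/-- The universal property of `Γ = Sym(E)/(1_E - 1, ker(S^m E → E^m))`. -/
def PresUP (E : Submodule A Γ) (m : ℕ) : Prop :=
  ∀ (T : Type u) [CommRing T] (a : A →+* T) (f₁ : E →+ T) (fm : ↥(E ^ m) →+ T),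
    (∀ (c : A) (e : E), f₁ (c • e) = a c * f₁ e) →
    (∀ (c : A) (e : ↥(E ^ m)), fm (c • e) = a c * fm e) →
    (∀ e : E, (e : Γ) = 1 → f₁ e = 1) →
    (∀ e : Fin m → E, fm ⟨∏ i, (e i : Γ), prod_mem_pow E m e⟩ = ∏ i, f₁ (e i)) →
    ∃ F : Γ →+* T, F.comp (algebraMap A Γ) = a ∧ (∀ e : E, F e = f₁ e) ∧ ∀ e : ↥(E ^ m), F e = fm e

section
variable {T : Type u} [CommRing T] (a : A →+* T) {E : Submodule A Γ} {m : ℕ} (f₁ : E →+ T) (fm : ↥(E ^ m) →+ T)

theorem list_key (hmul : ∀ e : Fin m → E, fm ⟨∏ i, (e i : Γ), prod_mem_pow E m e⟩ = ∏ i, f₁ (e i))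
    (l : List E) (hl : l.length = m) :
    ∃ h : (l.map fun x : E => (x : Γ)).prod ∈ E ^ m, fm ⟨_, h⟩ = (l.map f₁).prod := by
  subst hl
  have h1 : ∀ {N : Type u} [CommMonoid N] (g : E → N), (l.map g).prod = ∏ i, g (l.get i) := by
    intro N _ g
    rw [← List.prod_ofFn]
    congr 1
    conv_lhs => rw [← List.ofFn_get l]
    rw [List.map_ofFn]
    rfl
  have h2 := h1 (fun x : E => (x : Γ))
  refine ⟨by rw [h2]; exact prod_mem_pow E _ _, ?_⟩
  have h3 := hmul l.get
  refine Eq.trans ?_ (h3.trans (h1 f₁).symm)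
  congr 1
  exact Subtype.ext h2

include a in
theorem agree_pow (hlin : ∀ (c : A) (e : ↥(E ^ m)), fm (c • e) = a c * fm e)
    (hmul : ∀ e : Fin m → E, fm ⟨∏ i, (e i : Γ), prod_mem_pow E m e⟩ = ∏ i, f₁ (e i))
    (F : Γ →+* T) (hF : F.comp (algebraMap A Γ) = a) (hF1 : ∀ e : E, F e = f₁ e) (e : ↥(E ^ m)) : F e = fm e := by
  obtain ⟨x, hx⟩ := e
  have hx' := hx
  rw [pow_eq_span] at hx'
  have key : ∀ y (hy : y ∈ Submodule.span A (Set.range fun e : Fin m → E => ∏ i, (e i : Γ))),
      ∀ h : y ∈ E ^ m, F y = fm ⟨y, h⟩ := by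
    intro y hy
    induction hy using Submodule.span_induction with
    | mem z hz =>
      obtain ⟨e, rfl⟩ := hz
      intro h
      rw [hmul e, map_prod]
      exact Finset.prod_congr rfl fun i _ => hF1 (e i)
    | zero =>
      intro h
      have : (⟨0, h⟩ : ↥(E ^ m)) = 0 := rfl
      rw [this, map_zero, map_zero]
    | add y z hy hz ihy ihz =>
      intro h
      have hy' : y ∈ E ^ m := by rw [pow_eq_span]; exact hy
      have hz' : z ∈ E ^ m := by rw [pow_eq_span]; exact hz
      have : (⟨y + z, h⟩ : ↥(E ^ m)) = ⟨y, hy'⟩ + ⟨z, hz'⟩ := rfl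
      rw [this, map_add, map_add, ihy hy', ihz hz']
    | smul c y hy ih =>
      intro h
      have hy' : y ∈ E ^ m := by rw [pow_eq_span]; exact hy
      have : (⟨c • y, h⟩ : ↥(E ^ m)) = c • ⟨y, hy'⟩ := rfl
      rw [this, hlin, Algebra.smul_def, map_mul, ih hy', ← hF]
      rfl
  exact key x hx' hx

end

theorem exists_presUP [Algebra.FinitePresentation A Γ] (E : Submodule A Γ) (hfg : E.FG) (h1 : (1 : Γ) ∈ E)
    (hgen : Algebra.adjoin A (E : Set Γ) = ⊤) : ∃ m₀ : ℕ, ∀ m, m₀ ≤ m → PresUP E m := by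
  obtain ⟨n, s, hs⟩ := Submodule.fg_iff_exists_fin_generating_family.mp hfg
  have hsE : ∀ i, s i ∈ E := fun i => by rw [← hs]; exact Submodule.subset_span ⟨i, rfl⟩
  let π : MvPolynomial (Fin n) A →ₐ[A] Γ := MvPolynomial.aeval s
  have hπ : Function.Surjective π := by
    rw [← AlgHom.range_eq_top, eq_top_iff, ← hgen]
    refine Algebra.adjoin_le ?_
    intro x hx
    have hx' : x ∈ Submodule.span A (Set.range s) := by rw [hs]; exact hx
    refine (Submodule.span_le (p := Subalgebra.toSubmodule π.range)).mpr ?_ hx'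
    rintro _ ⟨i, rfl⟩
    exact ⟨MvPolynomial.X i, by simp [π]⟩
  have hker : (RingHom.ker π.toRingHom).FG :=
    Algebra.FinitePresentation.ker_fG_of_surjective π hπ
  obtain ⟨G, hG⟩ := hker
  refine ⟨G.sup MvPolynomial.totalDegree, fun m hm => ?_⟩
  intro T _ a f₁ fm hl1 hlm hone hmul
  let e0 : Fin n → E := fun i => ⟨s i, hsE i⟩
  let F₀ : MvPolynomial (Fin n) A →+* T := MvPolynomial.eval₂Hom a (fun i => f₁ (e0 i))
  have hmon : ∀ (α : Fin n →₀ ℕ) (c : A), (α.sum fun _ e => e) ≤ m →
      ∃ h : π (MvPolynomial.monomial α c) ∈ E ^ m, fm ⟨_, h⟩ = F₀ (MvPolynomial.monomial α c) := by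
    intro α c hα
    let l₀ : List E := (Finsupp.toMultiset α).toList.map e0
    have hl₀ : l₀.length = (α.sum fun _ e => e) := by
      simp only [l₀, List.length_map, Multiset.length_toList, Finsupp.card_toMultiset]
      rfl
    let l : List E := l₀ ++ List.replicate (m - l₀.length) ⟨1, h1⟩
    have hl : l.length = m := by
      simp only [l, List.length_append, List.length_replicate]
      omega
    have hprod : ∀ {N : Type u} [CommMonoid N] (g : E → N), g ⟨1, h1⟩ = 1 →
        (l.map g).prod = α.prod fun i k => g (e0 i) ^ k := by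
      intro N _ g hg
      have : (l.map g).prod = (l₀.map g).prod := by
        simp [l, hg]
      rw [this]
      have h4 : (l₀.map g).prod = (((Finsupp.toMultiset α).map fun i => g (e0 i))).prod := by
        conv_rhs => rw [← Multiset.coe_toList (Finsupp.toMultiset α)]
        rw [Multiset.map_coe, Multiset.prod_coe]
        simp only [l₀, List.map_map]
        rfl
      rw [h4, Finsupp.toMultiset_apply, Finsupp.sum, ← Multiset.coe_mapAddMonoidHom, map_sum, Multiset.prod_sum,
        Finsupp.prod]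
      refine Finset.prod_congr rfl fun i _ => ?_
      rw [Multiset.coe_mapAddMonoidHom, Multiset.map_nsmul, Multiset.prod_nsmul, Multiset.map_singleton,
        Multiset.prod_singleton]
    obtain ⟨h, hh⟩ := list_key f₁ fm hmul l hl
    have e1 := hprod (fun x : E => (x : Γ)) rfl
    have e2 := hprod (N := T) f₁ (hone _ rfl)
    have e3 : π (MvPolynomial.monomial α c) = c • (l.map fun x : E => (x : Γ)).prod := by
      rw [e1, Algebra.smul_def]
      exact MvPolynomial.aeval_monomial _ _ _
    refine ⟨by rw [e3]; exact Submodule.smul_mem _ _ h, ?_⟩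
    have e4 : (⟨π (MvPolynomial.monomial α c), by rw [e3]; exact Submodule.smul_mem _ _ h⟩ : ↥(E ^ m)) =
        c • ⟨_, h⟩ := Subtype.ext e3
    rw [e4, hlm, hh, e2]
    exact (MvPolynomial.eval₂_monomial a _).symm
  have hpol : ∀ g : MvPolynomial (Fin n) A, g.totalDegree ≤ m →
      ∃ h : π g ∈ E ^ m, fm ⟨_, h⟩ = F₀ g := by
    intro g hg
    have hmem : ∀ α ∈ g.support, (α.sum fun _ e => e) ≤ m := fun α hα =>
      (MvPolynomial.le_totalDegree hα).trans hg
    have : ∀ S : Finset (Fin n →₀ ℕ), S ⊆ g.support →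
        ∃ h : π (∑ α ∈ S, MvPolynomial.monomial α (g.coeff α)) ∈ E ^ m,
          fm ⟨_, h⟩ = F₀ (∑ α ∈ S, MvPolynomial.monomial α (g.coeff α)) := by
      classical
      intro S
      induction S using Finset.induction_on with
      | empty =>
        intro _
        refine ⟨by simp, ?_⟩
        simp only [Finset.sum_empty, map_zero]
        exact map_zero fm
      | insert α S hα ih =>
        intro hS
        obtain ⟨h, hh⟩ := ih ((Finset.subset_insert _ _).trans hS)
        obtain ⟨h', hh'⟩ := hmon α (g.coeff α) (hmem α (hS (Finset.mem_insert_self _ _)))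
        have e : π (∑ α ∈ insert α S, MvPolynomial.monomial α (g.coeff α)) =
            π (MvPolynomial.monomial α (g.coeff α)) + π (∑ α ∈ S, MvPolynomial.monomial α (g.coeff α)) := by
          rw [Finset.sum_insert hα, map_add]
        refine ⟨by rw [e]; exact Submodule.add_mem _ h' h, ?_⟩
        have e4 : (⟨π (∑ α ∈ insert α S, MvPolynomial.monomial α (g.coeff α)),
            by rw [e]; exact Submodule.add_mem _ h' h⟩ : ↥(E ^ m)) = ⟨_, h'⟩ + ⟨_, h⟩ := Subtype.ext e
        rw [e4, map_add, hh, hh', Finset.sum_insert hα, map_add]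
    obtain ⟨h, hh⟩ := this g.support subset_rfl
    have e := g.support_sum_monomial_coeff
    refine ⟨by rw [← e]; exact h, ?_⟩
    have : (⟨π g, by rw [← e]; exact h⟩ : ↥(E ^ m)) = ⟨_, h⟩ := Subtype.ext (congrArg π e.symm)
    rw [this, hh]
    exact congrArg F₀ e
  have hF₀ : ∀ g, g ∈ RingHom.ker π.toRingHom → F₀ g = 0 := by
    intro g hg
    rw [← hG] at hg
    have : (Ideal.span (G : Set (MvPolynomial (Fin n) A))) ≤ RingHom.ker F₀ := by
      rw [Ideal.span_le]
      intro x hx
      obtain ⟨h, hh⟩ := hpol x ((Finset.le_sup (f := MvPolynomial.totalDegree) hx).trans hm)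
      have hx0 : π x = 0 := by
        have : x ∈ RingHom.ker π.toRingHom := by rw [← hG]; exact Ideal.subset_span hx
        exact this
      have : (⟨π x, h⟩ : ↥(E ^ m)) = 0 := Subtype.ext hx0
      show F₀ x = 0
      rw [← hh, this, map_zero]
    exact this hg
  let F : Γ →+* T := RingHom.liftOfSurjective π.toRingHom hπ ⟨F₀, hF₀⟩
  have hFc : ∀ g, F (π g) = F₀ g := fun g => RingHom.liftOfRightInverse_comp_apply π.toRingHom _ _ ⟨F₀, hF₀⟩ g
  have hFa : F.comp (algebraMap A Γ) = a := by
    ext c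
    have : algebraMap A Γ c = π (MvPolynomial.C c) := (π.commutes c).symm
    show F (algebraMap A Γ c) = a c
    rw [this, hFc]
    exact MvPolynomial.eval₂_C _ _ _
  have hF1 : ∀ e : E, F e = f₁ e := by
    rintro ⟨x, hx⟩
    have hx' := hx
    rw [← hs] at hx'
    have key : ∀ y (hy : y ∈ Submodule.span A (Set.range s)), ∀ h : y ∈ E, F y = f₁ ⟨y, h⟩ := by
      intro y hy
      induction hy using Submodule.span_induction with
      | mem z hz =>
        obtain ⟨i, rfl⟩ := hz
        intro h
        have : s i = π (MvPolynomial.X i) := by simp [π]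
        conv_lhs => rw [this]
        rw [hFc]
        exact MvPolynomial.eval₂_X _ _ _
      | zero =>
        intro h
        have : (⟨0, h⟩ : E) = 0 := rfl
        rw [this, map_zero, map_zero]
      | add y z hy hz ihy ihz =>
        intro h
        have hy' : y ∈ E := by rw [← hs]; exact hy
        have hz' : z ∈ E := by rw [← hs]; exact hz
        have : (⟨y + z, h⟩ : E) = ⟨y, hy'⟩ + ⟨z, hz'⟩ := rfl
        rw [this, map_add, map_add, ihy hy', ihz hz']
      | smul c y hy ih =>
        intro h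
        have hy' : y ∈ E := by rw [← hs]; exact hy
        have : (⟨c • y, h⟩ : E) = c • ⟨y, hy'⟩ := rfl
        rw [this, hl1, Algebra.smul_def, map_mul, ih hy', ← hFa]
        rfl
    exact key x hx' hx
  exact ⟨F, hFa, hF1, agree_pow a f₁ fm hlm hmul F hFa hF1⟩

end Pres

end Groth.Agent.ResProp.EF.K786
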