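import Groth.Agent.ResProp.EF.K895.N6s
import Groth.Agent.ResProp.EF.K622.KerPair

/-!
# Points of a quasi-affine scheme and of its ring of functions (G1, Z1, helper786)

`W` quasi-affine, `φ i ∈ Γ(W)` with `W_(φ i)` affine and covering `W`: the morphisms `Spec T ⟶ W` are the ring maps
`y : Γ(W) → T` with `(y (φ i))` unimodular.  For `W` the union of the `D(f)`, `f ∈ F`, in `Spec R0`, they are also the
ring maps `ψ : R0 → T` with `ψ(F)` unimodular.
-/

set_option autoImplicit false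
universe u

open CategoryTheory CategoryTheory.Limits AlgebraicGeometry TopologicalSpace

namespace Groth.Agent.ResProp.EF.K786.PtsW

open Groth.Agent.ResProp.EF.K895.N6s Groth.Agent.ResProp.EF.K622

section General

variable {T : Type u} [CommRing T] {W : Scheme.{u}}

/-- the ring map of a morphism from an affine scheme -/
noncomputable def rgm (g : Spec (CommRingCat.of T) ⟶ W) : Γ(W, ⊤) →+* T :=
  (Scheme.ΓSpecIso (CommRingCat.of T)).hom.hom.comp g.appTop.hom

theorem toSpecΓ_rgm (g : Spec (CommRingCat.of T) ⟶ W) :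
    g ≫ W.toSpecΓ = Spec.map (CommRingCat.ofHom (rgm g)) := by
  rw [Scheme.toSpecΓ_naturality, rgm, CommRingCat.ofHom_comp, Spec.map_comp, ← SpecMap_ΓSpecIso_hom]
  rfl

theorem rgm_comp {V : Scheme.{u}} (g : Spec (CommRingCat.of T) ⟶ W) (j : W ⟶ V) :
    rgm (g ≫ j) = (rgm g).comp j.appTop.hom := by
  unfold rgm
  rw [Scheme.Hom.comp_appTop]
  rfl

theorem range_subset [W.IsQuasiAffine] {n : Type*} (φ : n → Γ(W, ⊤)) (ha : ∀ i, φ i ∈ affIdeal W) (y : Γ(W, ⊤) →+* T)
    (hy : Ideal.span (Set.range fun i => y (φ i)) = ⊤) :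
    Set.range (Spec.map (CommRingCat.ofHom y)) ⊆ Set.range W.toSpecΓ := by
  rintro _ ⟨p, rfl⟩
  have : ∃ i, y (φ i) ∉ p.asIdeal := by
    by_contra hn
    push Not at hn
    have : Ideal.span (Set.range fun i => y (φ i)) ≤ p.asIdeal := by
      rw [Ideal.span_le]
      rintro _ ⟨i, rfl⟩
      exact hn i
    rw [hy] at this
    exact p.isPrime.ne_top (top_le_iff.mp this)
  obtain ⟨i, hi⟩ := this
  exact (isAffineOpen_basicOpen_iff W (φ i)).1 ((mem_affIdeal W (φ i)).1 (ha i)) hi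

/-- the morphism of a ring map `y` with unimodular `y φ` -/
noncomputable def lift [W.IsQuasiAffine] {n : Type*} (φ : n → Γ(W, ⊤)) (ha : ∀ i, φ i ∈ affIdeal W) (y : Γ(W, ⊤) →+* T)
    (hy : Ideal.span (Set.range fun i => y (φ i)) = ⊤) : Spec (CommRingCat.of T) ⟶ W :=
  IsOpenImmersion.lift W.toSpecΓ (Spec.map (CommRingCat.ofHom y)) (range_subset φ ha y hy)

theorem lift_toSpecΓ [W.IsQuasiAffine] {n : Type*} (φ : n → Γ(W, ⊤)) (ha : ∀ i, φ i ∈ affIdeal W) (y : Γ(W, ⊤) →+* T)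
    (hy : Ideal.span (Set.range fun i => y (φ i)) = ⊤) :
    lift φ ha y hy ≫ W.toSpecΓ = Spec.map (CommRingCat.ofHom y) := IsOpenImmersion.lift_fac _ _ _

theorem rgm_lift [W.IsQuasiAffine] {n : Type*} (φ : n → Γ(W, ⊤)) (ha : ∀ i, φ i ∈ affIdeal W) (y : Γ(W, ⊤) →+* T)
    (hy : Ideal.span (Set.range fun i => y (φ i)) = ⊤) : rgm (lift φ ha y hy) = y := by
  have h := toSpecΓ_rgm (lift φ ha y hy)
  rw [lift_toSpecΓ] at h
  have := Spec.map_injective h
  simpa using (congrArg CommRingCat.Hom.hom this).symm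

theorem rgm_injective [W.IsQuasiAffine] {g g' : Spec (CommRingCat.of T) ⟶ W} (h : rgm g = rgm g') : g = g' := by
  rw [← cancel_mono W.toSpecΓ, toSpecΓ_rgm, toSpecΓ_rgm, h]

/-- the functions `φ` with `W = ⋃ W_(φ i)` are unimodular along every morphism -/
theorem span_rgm {n : Type*} (φ : n → Γ(W, ⊤)) (hc : ∀ w : W, ∃ i, w ∈ W.basicOpen (φ i))
    (g : Spec (CommRingCat.of T) ⟶ W) : Ideal.span (Set.range fun i => rgm g (φ i)) = ⊤ := by
  by_contra hn
  obtain ⟨m, hm, hle⟩ := Ideal.exists_le_maximal _ hn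
  let p : Spec (CommRingCat.of T) := ⟨m, hm.isPrime⟩
  obtain ⟨i, hi⟩ := hc (g p)
  have h1 : W.toSpecΓ (g p) = Spec.map (CommRingCat.ofHom (rgm g)) p := by
    rw [← toSpecΓ_rgm g]
    rfl
  have h2 : W.toSpecΓ (g p) ∈ (PrimeSpectrum.basicOpen (φ i) : Opens (PrimeSpectrum Γ(W, ⊤))) := by
    have : g p ∈ W.toSpecΓ ⁻¹ᵁ (PrimeSpectrum.basicOpen (φ i)) := by
      rw [W.toSpecΓ_preimage_basicOpen]
      exact hi
    exact this
  rw [h1] at h2
  have h3 : rgm g (φ i) ∉ m := h2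
  exact h3 (hle (Ideal.subset_span ⟨i, rfl⟩))

end General

section Open

variable {R0 : Type u} [CommRing R0] (F : Set R0)

/-- restriction of functions to the open set -/
noncomputable def res : R0 →+* Γ((opn F).toScheme, ⊤) :=
  ((opn F).ι.appTop.hom).comp (Scheme.ΓSpecIso (CommRingCat.of R0)).inv.hom

variable {T : Type u} [CommRing T]

theorem rgm_res (g : Spec (CommRingCat.of T) ⟶ (opn F).toScheme) :
    Spec.map (CommRingCat.ofHom ((rgm g).comp (res F))) = g ≫ (opn F).ι := by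
  have h := toSpecΓ_rgm (g ≫ (opn F).ι)
  rw [rgm_comp, ← SpecMap_ΓSpecIso_hom] at h
  rw [res, ← RingHom.comp_assoc, CommRingCat.ofHom_comp, Spec.map_comp, ← h, Category.assoc, CommRingCat.ofHom_hom,
    ← Spec.map_comp, Iso.inv_hom_id, Spec.map_id, Category.comp_id]

theorem span_res (g : Spec (CommRingCat.of T) ⟶ (opn F).toScheme) :
    Ideal.span (((rgm g).comp (res F)) '' F) = ⊤ := by
  by_contra hn
  obtain ⟨m, hm, hle⟩ := Ideal.exists_le_maximal _ hn
  let p : Spec (CommRingCat.of T) := ⟨m, hm.isPrime⟩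
  have h1 : (Spec.map (CommRingCat.ofHom ((rgm g).comp (res F)))) p ∈ opn F := by
    rw [rgm_res]
    exact (g p).2
  obtain ⟨f, hf, hfn⟩ := (mem_opn F _).1 h1
  exact hfn (hle (Ideal.subset_span ⟨f, hf, rfl⟩))

/-- **(i)** unimodularity of `y φ` gives unimodularity of `F` -/
theorem span_of_span [(opn F).toScheme.IsQuasiAffine] {n : Type*} (φ : n → Γ((opn F).toScheme, ⊤))
    (ha : ∀ i, φ i ∈ affIdeal (opn F).toScheme) (y : Γ((opn F).toScheme, ⊤) →+* T)
    (hy : Ideal.span (Set.range fun i => y (φ i)) = ⊤) : Ideal.span ((y.comp (res F)) '' F) = ⊤ := by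
  have := span_res F (lift φ ha y hy)
  rwa [rgm_lift] at this

/-- **(ii)** existence -/
theorem exists_of_span {n : Type*} (φ : n → Γ((opn F).toScheme, ⊤))
    (hc : ∀ w : (opn F).toScheme, ∃ i, w ∈ (opn F).toScheme.basicOpen (φ i)) (ψ : R0 →+* T)
    (hψ : Ideal.span (ψ '' F) = ⊤) :
    ∃ y : Γ((opn F).toScheme, ⊤) →+* T, y.comp (res F) = ψ ∧ Ideal.span (Set.range fun i => y (φ i)) = ⊤ := by
  have hr : Set.range (Spec.map (CommRingCat.ofHom ψ)) ⊆ Set.range (opn F).ι := by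
    rintro _ ⟨p, rfl⟩
    rw [Scheme.Opens.range_ι]
    have : (Spec.map (CommRingCat.ofHom ψ)) p ∈ opn F := by
      rw [mem_opn]
      by_contra hn
      push Not at hn
      have : Ideal.span (ψ '' F) ≤ p.asIdeal := by
        rw [Ideal.span_le]
        rintro _ ⟨f, hf, rfl⟩
        exact hn f hf
      rw [hψ] at this
      exact p.isPrime.ne_top (top_le_iff.mp this)
    exact this
  let g := IsOpenImmersion.lift (opn F).ι (Spec.map (CommRingCat.ofHom ψ)) hr
  have hg : g ≫ (opn F).ι = Spec.map (CommRingCat.ofHom ψ) := IsOpenImmersion.lift_fac _ _ _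
  refine ⟨rgm g, ?_, span_rgm φ hc g⟩
  have h := rgm_res F g
  rw [hg] at h
  have := Spec.map_injective h
  simpa using congrArg CommRingCat.Hom.hom this

/-- **(iii)** uniqueness -/
theorem eq_of_comp_res [(opn F).toScheme.IsQuasiAffine] {n : Type*} (φ : n → Γ((opn F).toScheme, ⊤))
    (ha : ∀ i, φ i ∈ affIdeal (opn F).toScheme) (y y' : Γ((opn F).toScheme, ⊤) →+* T)
    (hy : Ideal.span (Set.range fun i => y (φ i)) = ⊤) (hy' : Ideal.span (Set.range fun i => y' (φ i)) = ⊤)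
    (h : y.comp (res F) = y'.comp (res F)) : y = y' := by
  rw [← rgm_lift φ ha y hy, ← rgm_lift φ ha y' hy']
  congr 1
  rw [← cancel_mono (opn F).ι, ← rgm_res, ← rgm_res, rgm_lift, rgm_lift, h]

end Open

end Groth.Agent.ResProp.EF.K786.PtsW
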