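import Groth.Agent.ResProp.EF.K412.Asm
import Groth.Agent.ResProp.EF.K412.Out
import Groth.Agent.ResProp.EF.K128.Conerve
import Groth.Agent.ResProp.EF.K819.MidSheafy
import Groth.Agent.ResProp.EF.K840.FrAct
import Groth.Agent.ResProp.EF.K58.Galois
import Groth.Agent.ResProp.EF.K741.ComodAb

/-!
# Z1a (G1): the action of the groupoid ring on `D0`, and on the frame algebras over it (helper786)

`actD0 M hG hA hs : ActD A D0 D1`, `actFr X φ h : ActD A (Fr over D0) (Fr over D1)`.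
-/

set_option autoImplicit false
set_option linter.dupNamespace false
set_option linter.style.haveILetI false

universe u

open CategoryTheory CategoryTheory.Limits Opposite TensorProduct
open Groth.Agent.Grpsch.AffGrpd EF56 K784.BC K784.PM K741.RP

noncomputable section

namespace Groth.Agent.ResProp.EF.K786

open K412 K819 K128 K128.Conerve K128.Nerve

section Pts

variable {A B : Type u} [CommRing A] [CommRing B] {Lb : Type u} [CommRing Lb] [Algebra Lb A] {G : RGrpd A B}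
  {D : Gen Lb G} {κ : Type u} [Field κ] {x : A →+* κ} {F : FrRing D x} (M : MidData F)

/-- associativity of the action, at points over which the `s_IJ` are unimodular -/
theorem assoc_pts (hs : G.s.Flat) {T : Type u} [CommRing T] (r r' r'' : M.D1 →+* T)
    (h1 : r'.comp M.σ = r.comp M.τ) (h2 : r''.comp M.σ = r.comp M.σ)
    (hst : (r'.comp M.g).comp G.s = (r.comp M.g).comp G.t)
    (hg : G.comp (r'.comp M.g) (r.comp M.g) hst = r''.comp M.g)
    (hspan : Ideal.span (Set.range fun z => r (M.σ (algebraMap F.R M.D0 (sIJ F z)))) = ⊤) :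
    r''.comp M.τ = r'.comp M.τ := by
  have t1 := isTrans_point M r
  have t2 := isTrans_point M r'
  have t3 := isTrans_point M r''
  rw [h1] at t2
  rw [h2] at t3
  have t12 := K840.FrAct.IsTrans_trans hs (K840.FrAct.isFrC_pt (F := F) ((r.comp M.σ).comp (algebraMap F.R M.D0))) t1 t2 hst
  rw [hg] at t12
  have e1 : (r''.comp M.τ).comp (algebraMap F.R M.D0) = (r'.comp M.τ).comp (algebraMap F.R M.D0) :=
    hom_ext (IsTrans_unique t3 t12)
  have hsp : Ideal.span (Set.range fun z => ((r''.comp M.τ).comp (algebraMap F.R M.D0)) (sIJ F z)) = ⊤ := by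
    refine span_inv M hs r'' ?_
    have e2 : (fun z => r'' (M.σ (algebraMap F.R M.D0 (sIJ F z)))) =
        fun z => r (M.σ (algebraMap F.R M.D0 (sIJ F z))) := by
      funext z
      exact RingHom.congr_fun h2 _
    rw [e2]
    exact hspan
  exact (M.pts _ hsp).unique rfl e1.symm

end Pts

section Act

variable {A : NFᵒᵖ ⥤ CommRingCat.{u}} {Lb : Type u} [CommRing Lb] [Algebra Lb (A.obj (op ⟨0⟩))]
  {G : RGrpd (A.obj (op ⟨0⟩)) (A.obj (op ⟨1⟩))} {D : Gen Lb G} {κ : Type u} [Field κ]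
  {x : A.obj (op ⟨0⟩) →+* κ} {F : FrRing D x} (M : MidData F) (hG : IsGrpd A G) (hA : GR A)

theorem e01_s : (rg A (edge (n := 2) 0 1)).comp (rg A (pr ⟨0⟩)) = rg A (pt ⟨2⟩ 0) := by
  rw [← rg_comp, pr_zero, edge_pt0]

theorem e01_t : (rg A (edge (n := 2) 0 1)).comp (rg A (lst ⟨0⟩)) = rg A (pt ⟨2⟩ 1) := by
  rw [← rg_comp]
  rfl

theorem e12_s : (rg A (edge (n := 2) 1 2)).comp (rg A (pr ⟨0⟩)) = rg A (pt ⟨2⟩ 1) := by
  rw [← rg_comp, pr_zero, edge_pt0]

theorem e02_s : (rg A (edge (n := 2) 0 2)).comp (rg A (pr ⟨0⟩)) = rg A (pt ⟨2⟩ 0) := by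
  rw [← rg_comp, pr_zero, edge_pt0]

include hG hA in
/-- **associativity of the action on `D0`** -/
theorem assoc_D0 (hs : G.s.Flat) {T : Type u} [CommRing T] (r r' r'' : M.D1 →+* T) (m : A.obj (op ⟨2⟩) →+* T)
    (h1 : r'.comp M.σ = r.comp M.τ) (h2 : r''.comp M.σ = r.comp M.σ)
    (h01 : m.comp (rg A (edge (n := 2) 0 1)) = r.comp M.g)
    (h12 : m.comp (rg A (edge (n := 2) 1 2)) = r'.comp M.g)
    (h02 : m.comp (rg A (edge (n := 2) 0 2)) = r''.comp M.g) : r''.comp M.τ = r'.comp M.τ := by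
  -- the universal case
  letI : Algebra (A.obj (op ⟨0⟩)) M.D0 := M.p.toAlgebra
  letI : Algebra (A.obj (op ⟨0⟩)) (A.obj (op ⟨2⟩)) := (rg A (pt ⟨2⟩ 0)).toAlgebra
  haveI : Module.Flat (A.obj (op ⟨0⟩)) (A.obj (op ⟨2⟩)) := (K741.ff_pt hA ⟨2⟩ 0).fl
  let U := M.D0 ⊗[A.obj (op ⟨0⟩)] A.obj (op ⟨2⟩)
  let i0 : M.D0 →+* U := Algebra.TensorProduct.includeLeftRingHom
  let m2 : A.obj (op ⟨2⟩) →+* U := (Algebra.TensorProduct.includeRight : A.obj (op ⟨2⟩) →ₐ[A.obj (op ⟨0⟩)] U).toRingHom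
  have hi : i0.comp M.p = m2.comp (rg A (pt ⟨2⟩ 0)) := by
    ext a
    show (algebraMap (A.obj (op ⟨0⟩)) M.D0 a) ⊗ₜ[A.obj (op ⟨0⟩)] (1 : A.obj (op ⟨2⟩)) =
      (1 : M.D0) ⊗ₜ[A.obj (op ⟨0⟩)] (algebraMap (A.obj (op ⟨0⟩)) (A.obj (op ⟨2⟩)) a)
    rw [Algebra.algebraMap_eq_smul_one, Algebra.algebraMap_eq_smul_one, TensorProduct.smul_tmul]
  have c01 : (m2.comp (rg A (edge (n := 2) 0 1))).comp G.s = (i0.comp (algebraMap F.R M.D0)).comp F.P.a := by
    rw [hG.s, RingHom.comp_assoc, e01_s]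
    exact hi.symm
  obtain ⟨rU, ⟨rU1, rU2⟩, -⟩ := M.po i0 (m2.comp (rg A (edge (n := 2) 0 1))) c01
  have c02 : (m2.comp (rg A (edge (n := 2) 0 2))).comp G.s = (i0.comp (algebraMap F.R M.D0)).comp F.P.a := by
    rw [hG.s, RingHom.comp_assoc, e02_s]
    exact hi.symm
  obtain ⟨rU'', ⟨rU1'', rU2''⟩, -⟩ := M.po i0 (m2.comp (rg A (edge (n := 2) 0 2))) c02
  have c12 : (m2.comp (rg A (edge (n := 2) 1 2))).comp G.s =
      ((rU.comp M.τ).comp (algebraMap F.R M.D0)).comp F.P.a := by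
    have e1 : ((rU.comp M.τ).comp (algebraMap F.R M.D0)).comp F.P.a = rU.comp (M.τ.comp M.p) := rfl
    rw [e1, M.τ_p, ← RingHom.comp_assoc, rU2, hG.t, hG.s, RingHom.comp_assoc, RingHom.comp_assoc, e12_s, e01_t]
  obtain ⟨rU', ⟨rU1', rU2'⟩, -⟩ := M.po (rU.comp M.τ) (m2.comp (rg A (edge (n := 2) 1 2))) c12
  -- the comparison map
  have hf0 : (r.comp M.σ).comp M.p = m.comp (rg A (pt ⟨2⟩ 0)) := by
    rw [← e01_s, ← RingHom.comp_assoc, h01, RingHom.comp_assoc, M.σ_p, ← hG.s]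
    rfl
  letI : Algebra (A.obj (op ⟨0⟩)) T := ((r.comp M.σ).comp M.p).toAlgebra
  let fl : M.D0 →ₐ[A.obj (op ⟨0⟩)] T := { r.comp M.σ with commutes' := fun a => rfl }
  let fr : A.obj (op ⟨2⟩) →ₐ[A.obj (op ⟨0⟩)] T := { m with commutes' := fun a => (RingHom.congr_fun hf0 a).symm }
  let f : U →+* T := (Algebra.TensorProduct.productMap fl fr).toRingHom
  have hfi : f.comp i0 = r.comp M.σ := by
    ext d
    exact Algebra.TensorProduct.productMap_left_apply fl fr d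
  have hfm : f.comp m2 = m := by
    ext d
    exact Algebra.TensorProduct.productMap_right_apply fl fr d
  have q1 : f.comp rU = r := by
    refine (M.po (r.comp M.σ) (r.comp M.g) ?_).unique ⟨?_, ?_⟩ ⟨rfl, rfl⟩
    · rw [RingHom.comp_assoc, M.hg]
      rfl
    · rw [RingHom.comp_assoc, rU1, hfi]
    · rw [RingHom.comp_assoc, rU2, ← RingHom.comp_assoc, hfm, h01]
  have q2 : f.comp rU'' = r'' := by
    refine (M.po (r''.comp M.σ) (r''.comp M.g) ?_).unique ⟨?_, ?_⟩ ⟨rfl, rfl⟩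
    · rw [RingHom.comp_assoc, M.hg]
      rfl
    · rw [RingHom.comp_assoc, rU1'', hfi, h2]
    · rw [RingHom.comp_assoc, rU2'', ← RingHom.comp_assoc, hfm, h02]
  have q3 : f.comp rU' = r' := by
    refine (M.po (r'.comp M.σ) (r'.comp M.g) ?_).unique ⟨?_, ?_⟩ ⟨rfl, rfl⟩
    · rw [RingHom.comp_assoc, M.hg]
      rfl
    · rw [RingHom.comp_assoc, rU1', ← RingHom.comp_assoc, q1, h1]
    · rw [RingHom.comp_assoc, rU2', ← RingHom.comp_assoc, hfm, h12]
  rw [← q2, ← q3, RingHom.comp_assoc, RingHom.comp_assoc]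
  congr 1
  -- in `U`
  have hU : K478.Sheafy (fun z => algebraMap M.D0 U (algebraMap F.R M.D0 (sIJ F z))) :=
    M.sec.sh.of_flat (E := U)
  have hst : (rU'.comp M.g).comp G.s = (rU.comp M.g).comp G.t := by
    rw [rU2', rU2, hG.s, hG.t, RingHom.comp_assoc, RingHom.comp_assoc, e12_s, e01_t]
  have hcomp : G.comp (rU'.comp M.g) (rU.comp M.g) hst = rU''.comp M.g := by
    have h := hG.comp m2 (by
      rw [hG.s, hG.t]
      exact (RingHom.comp_assoc _ _ _).trans ((congrArg m2.comp (e12_s (A := A))).trans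
        ((congrArg m2.comp (e01_t (A := A))).symm.trans (RingHom.comp_assoc _ _ _).symm)))
    rw [rU2'']
    refine Eq.trans ?_ h
    exact K840.FrAct.comp_congr G hst rU2' rU2
  ext d
  rw [← sub_eq_zero]
  refine hU.sep _ fun z => ?_
  let s0 : U := algebraMap M.D0 U (algebraMap F.R M.D0 (sIJ F z))
  let loc : U →+* Localization.Away s0 := algebraMap U (Localization.Away s0)
  have key := assoc_pts M hs (loc.comp rU) (loc.comp rU') (loc.comp rU'')
    (by rw [RingHom.comp_assoc, rU1', RingHom.comp_assoc]) (by rw [RingHom.comp_assoc, rU1'', RingHom.comp_assoc, rU1])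
    (by
      show loc.comp ((rU'.comp M.g).comp G.s) = loc.comp ((rU.comp M.g).comp G.t)
      rw [hst])
    (by
      have h := G.comp_nat loc (rU'.comp M.g) (rU.comp M.g) hst
      rw [hcomp] at h
      exact h.symm)
    (span_top_of_isUnit (i := z) (by
      show IsUnit (loc (rU (M.σ (algebraMap F.R M.D0 (sIJ F z)))))
      have e : rU (M.σ (algebraMap F.R M.D0 (sIJ F z))) = s0 := RingHom.congr_fun rU1 _
      rw [e]
      exact IsLocalization.Away.algebraMap_isUnit _))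
  have h0 : loc ((rU''.comp M.τ) d - (rU'.comp M.τ) d) = 0 := by
    rw [map_sub, sub_eq_zero]
    exact RingHom.congr_fun key d
  obtain ⟨⟨_, n, rfl⟩, hc⟩ := (IsLocalization.map_eq_zero_iff (Submonoid.powers s0) (Localization.Away s0) _).1 h0
  exact ⟨n, hc⟩

/-- **Z1a (i)**: the action of the groupoid ring on `D0` -/
def actD0 (hs : G.s.Flat) : ActD A (CommRingCat.of M.D0) (CommRingCat.of M.D1) where
  p := CommRingCat.ofHom M.p
  σ := CommRingCat.ofHom M.σ
  τ := CommRingCat.ofHom M.τ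
  g := CommRingCat.ofHom M.g
  po := by
    have w : A.map (pr ⟨0⟩).op ≫ CommRingCat.ofHom M.g = CommRingCat.ofHom M.p ≫ CommRingCat.ofHom M.σ := by
      refine CommRingCat.hom_ext ?_
      have h := M.hg
      rw [hG.s] at h
      exact h
    have key : ∀ (s : PushoutCocone (A.map (pr ⟨0⟩).op) (CommRingCat.ofHom M.p)),
        s.inl.hom.comp G.s = (s.inr.hom.comp (algebraMap F.R M.D0)).comp F.P.a := fun s => by
      rw [hG.s]
      exact congrArg CommRingCat.Hom.hom s.condition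
    refine ⟨⟨w⟩, ⟨PushoutCocone.IsColimit.mk _
      (fun s => CommRingCat.ofHom (M.po s.inr.hom s.inl.hom (key s)).choose) (fun s => ?_) (fun s => ?_)
      (fun s m h1 h2 => ?_)⟩⟩
    · exact CommRingCat.hom_ext (M.po s.inr.hom s.inl.hom (key s)).choose_spec.1.2
    · exact CommRingCat.hom_ext (M.po s.inr.hom s.inl.hom (key s)).choose_spec.1.1
    · refine CommRingCat.hom_ext ((M.po s.inr.hom s.inl.hom (key s)).choose_spec.2 m.hom ⟨?_, ?_⟩)
      · exact congrArg CommRingCat.Hom.hom h2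
      · exact congrArg CommRingCat.Hom.hom h1
  ht := by
    refine CommRingCat.hom_ext ?_
    have h := M.τ_p
    rw [hG.t] at h
    exact h.symm
  assoc {T} r r' r'' m h1 h2 h01 h12 h02 := by
    refine CommRingCat.hom_ext ?_
    exact assoc_D0 M hG hA hs r.hom r'.hom r''.hom m.hom (congrArg CommRingCat.Hom.hom h1)
      (congrArg CommRingCat.Hom.hom h2) (congrArg CommRingCat.Hom.hom h01) (congrArg CommRingCat.Hom.hom h12)
      (congrArg CommRingCat.Hom.hom h02)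

end Act

section Fr

open K58

variable {A : NFᵒᵖ ⥤ CommRingCat.{u}} {D0 D1 : CommRingCat.{u}} (X : ActD A D0 D1) {n : Type} [Fintype n]
  [DecidableEq n] (i₀ : n) (φ0 : n → D0) (φ1 : n → D1) (hσ : ∀ i, X.σ.hom (φ0 i) = φ1 i)
  (hτ : ∀ i, X.τ.hom (φ0 i) = φ1 i)

/-- **Z1a (ii)**: the action on the frame algebras -/
def actFr : ActD A (CommRingCat.of (Fr i₀ φ0)) (CommRingCat.of (Fr i₀ φ1)) where
  p := X.p ≫ CommRingCat.ofHom (algebraMap D0 (Fr i₀ φ0))
  σ := CommRingCat.ofHom (Fr.map (i₀ := i₀) X.σ.hom hσ)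
  τ := CommRingCat.ofHom (Fr.map (i₀ := i₀) X.τ.hom hτ)
  g := X.g ≫ CommRingCat.ofHom (algebraMap D1 (Fr i₀ φ1))
  po := by
    have h := Fr.isPO (i₀ := i₀) X.σ.hom hσ
    exact X.po.paste_vert h
  ht := by
    rw [← Category.assoc, X.ht, Category.assoc, Category.assoc]
    congr 1
    refine CommRingCat.hom_ext ?_
    exact (Fr.map_comp_algebraMap (i₀ := i₀) X.τ.hom hτ).symm
  assoc {T} r r' r'' m h1 h2 h01 h12 h02 := by
    have eσ : X.σ ≫ CommRingCat.ofHom (algebraMap D1 (Fr i₀ φ1)) =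
        CommRingCat.ofHom (algebraMap D0 (Fr i₀ φ0)) ≫ CommRingCat.ofHom (Fr.map (i₀ := i₀) X.σ.hom hσ) :=
      CommRingCat.hom_ext (Fr.map_comp_algebraMap (i₀ := i₀) X.σ.hom hσ).symm
    have eτ : X.τ ≫ CommRingCat.ofHom (algebraMap D1 (Fr i₀ φ1)) =
        CommRingCat.ofHom (algebraMap D0 (Fr i₀ φ0)) ≫ CommRingCat.ofHom (Fr.map (i₀ := i₀) X.τ.hom hτ) :=
      CommRingCat.hom_ext (Fr.map_comp_algebraMap (i₀ := i₀) X.τ.hom hτ).symm
    have k0 := X.assoc (CommRingCat.ofHom (algebraMap D1 (Fr i₀ φ1)) ≫ r)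
      (CommRingCat.ofHom (algebraMap D1 (Fr i₀ φ1)) ≫ r') (CommRingCat.ofHom (algebraMap D1 (Fr i₀ φ1)) ≫ r'') m
      (by rw [← Category.assoc, eσ, Category.assoc, h1, ← Category.assoc, ← eτ, Category.assoc])
      (by rw [← Category.assoc, eσ, Category.assoc, h2, ← Category.assoc, ← eσ, Category.assoc])
      (by rw [h01, Category.assoc]) (by rw [h12, Category.assoc]) (by rw [h02, Category.assoc])
    have mσ : ∀ q : CommRingCat.of (Fr i₀ φ1) ⟶ T, (mat i₀ φ0).map (CommRingCat.ofHom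
        (Fr.map (i₀ := i₀) X.σ.hom hσ) ≫ q).hom = (mat i₀ φ1).map q.hom := fun q => by
      rw [← Fr.map_mat (i₀ := i₀) X.σ.hom hσ, Matrix.map_map]
      rfl
    have mτ : ∀ q : CommRingCat.of (Fr i₀ φ1) ⟶ T, (mat i₀ φ0).map (CommRingCat.ofHom
        (Fr.map (i₀ := i₀) X.τ.hom hτ) ≫ q).hom = (mat i₀ φ1).map q.hom := fun q => by
      rw [← Fr.map_mat (i₀ := i₀) X.τ.hom hτ, Matrix.map_map]
      rfl
    refine CommRingCat.hom_ext (Fr.hom_ext ?_ ?_)
    · have k1 : CommRingCat.ofHom (algebraMap D0 (Fr i₀ φ0)) ≫ CommRingCat.ofHom (Fr.map (i₀ := i₀) X.τ.hom hτ) ≫ r'' =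
          CommRingCat.ofHom (algebraMap D0 (Fr i₀ φ0)) ≫ CommRingCat.ofHom (Fr.map (i₀ := i₀) X.τ.hom hτ) ≫ r' := by
        rw [← Category.assoc, ← eτ, Category.assoc, k0, ← Category.assoc, eτ, Category.assoc]
      exact congrArg CommRingCat.Hom.hom k1
    · rw [mτ, mτ, ← mσ r'', h2, mσ, ← mτ r, ← h1, mσ]

end Fr

end Groth.Agent.ResProp.EF.K786
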